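import Cfsg.Agent.Mrg.Omega.NO3b.Base.Wcy
import Cfsg.Agent.Mrg.Omega.NO3b.ZP.Lines


/-!
# The w.c. frame for a module `Y` which is not FF (#19027 (a)), seed `1 ≠ Z ≤ Ω₁(Z(S))`

`Base/Wcy.lean` with `zc S` replaced by `Z`: `PreZ S Z W V`, `RootYZ S Z Z₁ Y`, `RootYZ.low` : `V' ≤ O₂(C_G(Z))`.
-/

set_option autoImplicit false

namespace Cfsg.Agent.Omega.NO3b.ZP.Base

open Subgroup Cfsg
open Cfsg.Agent.ZN (o2 zc zl jj zj)
open Cfsg.Agent.ZN.ChoiceBase hiding mem_zc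
open Cfsg.Agent.ZN.ChoiceSit (Syl exists_syl syl_conj o2_le_syl)
open Cfsg.Agent.Omega.NO3b.EZero (NotFF cent_symm cj_cent cj_norm cj_eq_cj_iff cl le_cl cj_le_cl cl_le
  le_normalizer_cl)
open Cfsg.Agent.Omega.FFThm (ElemM OffM NoOverM)
open Cfsg.Agent.Omega.NOThreeL.Star (Opt Ok exists_opt)
open Cfsg.Agent.Omega.NO3b.Wc
open Cfsg.Agent.Omega.NO3b.Exit
open Cfsg.Agent.Omega.NO3b.Base (WY wc_WY WY_le le_WY mem_norm_WY VY)
open Cfsg.Agent.MinSimple.VModule (zc_le mem_zc le_centralizer_zc zc_sq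
  le_normalizer_o2 o2_isPGroup le_o2 zc_comm normalizer_le_normalizer_zc o2_le)
open Cfsg.Agent.Omega.NOne (Flat.Hyp Flat.Bad Flat.EE Flat.WW Flat.o2_conj)

universe u

variable {G : Type u} [Group G] [Finite G] {S : Sylow 2 G}

/-! ### The frame without `V ≤ O₂(C_G(Z))` -/

/-- `W ≤ C_S(V)` weakly closed in `S`, `N_G(W) ≤ N_G(V)`, `V` elementary abelian, not FF, `Z ≤ V`. -/
structure PreZ (S : Sylow 2 G) (Z W V : Subgroup G) : Prop where
  Zne : Z ≠ ⊥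
  Zc : Z ≤ zc (S : Subgroup G)
  wc : WC (S : Subgroup G) W
  NW : normalizer (W : Set G) ≤ normalizer (V : Set G)
  WV : W ≤ centralizer (V : Set G)
  comm : V ≤ centralizer (V : Set G)
  sq : ∀ v ∈ V, v ^ 2 = 1
  ZV : Z ≤ V
  nff : NotFF V

namespace PreZ

variable {Z W V F : Subgroup G} (h : PreZ S Z W V)
include h

theorem S_le : (S : Subgroup G) ≤ normalizer (W : Set G) := wc_S_le h.wc

/-- A 2-group containing `W` lies in `N_G(W)`. -/
theorem pgroup_le {T : Subgroup G} (hT : IsPGroup 2 T) (h1 : W ≤ T) : T ≤ normalizer (W : Set G) := by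
  obtain ⟨S', hS'⟩ := hT.exists_le_sylow
  obtain ⟨l, hl⟩ := MulAction.exists_smul_eq G S S'
  have hl2 : (S' : Subgroup G) = cj l (S : Subgroup G) := by
    rw [← hl, Sylow.coe_subgroup_smul]; rfl
  rw [hl2] at hS'
  have h2 : cj l⁻¹ W ≤ (S : Subgroup G) := by
    have h3 := cj_mono l⁻¹ (h1.trans hS')
    rwa [cj_inv_cj] at h3
  have h3 : l ∈ normalizer (W : Set G) := by
    have := inv_mem (mem_normalizer_iff_cj.2 (h.wc.eq _ h2))
    rwa [inv_inv] at this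
  refine hS'.trans ?_
  have h4 := cj_mono l h.S_le
  rwa [cj_eq_of_mem_normalizer (Subgroup.le_normalizer h3)] at h4

/-- **Sylow control** -/
theorem o2_le {X : Subgroup G} (hX : W ≤ X) : o2 X ≤ normalizer (W : Set G) := by
  obtain ⟨T, hT, h1⟩ := exists_syl (S.isPGroup'.to_le h.wc.le) hX
  exact (o2_le_syl hT).trans (pgroup_le h hT.2.1 h1)

theorem o2_cent_le {D : Subgroup G} (hD : D ≤ V) : o2 (centralizer (D : Set G)) ≤ normalizer (W : Set G) :=
  h.o2_le (h.WV.trans (centralizer_le hD))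

/-- the hypotheses of THEOREM FLAT for a maximal bad `F ≤ V` -/
theorem hyp_of (hG : IsCharacteristicTwoType G) (hF : MaxBad V F) : Flat.Hyp V F where
  comm := h.comm
  sq := h.sq
  syl := fun D _ hD => (h.o2_cent_le hD).trans h.NW
  noff := by
    intro A hA hc hs hne
    have h1 := h.nff A (NoEmp.pgroup_of_sq hs) hA (fun a ha => by rw [hs a ha]; exact one_mem _)
      (fun a ha b hb => by
        have e : a * b = b * a := (mem_centralizer_iff.1 (hc ha) b hb).symm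
        rw [e, mul_inv_cancel_right, mul_inv_cancel]; exact one_mem _) hne
    by_contra h2
    exact absurd (FFThm.relIndex_le_iff.1 (not_lt.1 h2)) (not_le.2 h1)
  char2 := NOne.LemmaT.char2_centralizer hG ((NoEmp.pgroup_of_sq h.sq).to_le hF.1.le) hF.1.ne
  bad := hF.1
  max := hF.2

theorem WW_le (hF : F ≤ V) : Flat.WW V F ≤ normalizer (W : Set G) :=
  Flat.Hyp.W_le_R.trans (h.o2_cent_le hF)

/-- `[V, W_F] ≠ 1` -/
theorem WW_not_cent (hG : IsCharacteristicTwoType G) (hF : MaxBad V F) :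
    ¬ Flat.WW V F ≤ centralizer (V : Set G) := by
  intro h0
  have h1 := (h.hyp_of hG hF).cent_VW
  rw [inf_eq_left.2 (cent_symm h0)] at h1
  apply hF.1.not_le
  have h2 : V ≤ centralizer (F : Set G) := h.comm.trans (centralizer_le hF.1.le)
  refine le_o2 h2 (NoEmp.pgroup_of_sq h.sq) ?_
  rw [← h1]
  exact centralizer_le_normalizer _

/-- `W_F ≤ S` implies `Z ≤ F`. -/
theorem zc_le_of (hG : IsCharacteristicTwoType G) (hF : MaxBad V F)
    (hS : Flat.WW V F ≤ (S : Subgroup G)) : Z ≤ F := by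
  rw [← (h.hyp_of hG hF).cent_VW]
  exact le_inf h.ZV (cent_symm (hS.trans ((le_centralizer_zc _).trans (centralizer_le h.Zc))))

/-- **THEOREM OFF, Corollary A** -/
theorem off_of (hG : IsCharacteristicTwoType G) (hOff : StmtOff G) (hF : MaxBad V F)
    (hS : Flat.WW V F ≤ (S : Subgroup G)) {Y : Subgroup G} (hYV : Y ≤ V)
    (hYZ : Y ≤ o2 (centralizer (Z : Set G)))
    (hne : ¬ Flat.WW V F ≤ centralizer (Y : Set G)) : OffM Y (Flat.WW V F) := by
  have hy := h.hyp_of hG hF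
  have hZF := h.zc_le_of hG hF hS
  have hCF : centralizer (F : Set G) ≤ centralizer (Z : Set G) := centralizer_le hZF
  have h1 : Y ≤ o2 (centralizer (F : Set G)) := by
    have h2 : o2 (centralizer (Z : Set G)) ⊓ centralizer (F : Set G) ≤
        o2 (centralizer (F : Set G)) := by
      refine le_o2 inf_le_right ((o2_isPGroup _).to_le inf_le_left) ?_
      intro x hx
      rw [mem_normalizer_iff_cj, cj_inf, cj_eq_of_mem_normalizer (Subgroup.le_normalizer hx),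
        cj_eq_of_mem_normalizer (le_normalizer_o2 _ (hCF hx))]
    exact (le_inf hYZ (hYV.trans (h.comm.trans (centralizer_le hF.1.le)))).trans h2
  have h3 := hy.off_of_le (hOff _ _ hy) (Y := Y) (le_inf hYV h1)
  obtain ⟨e1, e2⟩ := hy.elem_W hYV
  refine ⟨⟨fun a ha => by rw [pow_two]; exact e2 a ha, fun a ha b hb => e1 a ha b hb⟩, hne, ?_⟩
  exact FFThm.relIndex_le_iff.2 h3

end PreZ

/-- `Z ≤ Z₁ ≤ Y`, `Y` elementary abelian, normal in `S`, not FF, `Y ≤ ⟨Z₁^{N_G(WY)}⟩`. -/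
structure RootYZ (S : Sylow 2 G) (Z Z₁ Y : Subgroup G) : Prop where
  Zne : Z ≠ ⊥
  Zc : Z ≤ zc (S : Subgroup G)
  SY : (S : Subgroup G) ≤ normalizer (Y : Set G)
  YS : Y ≤ (S : Subgroup G)
  comm : Y ≤ centralizer (Y : Set G)
  sq : ∀ v ∈ Y, v ^ 2 = 1
  nff : NotFF Y
  zZ : Z ≤ Z₁
  ZY : Z₁ ≤ Y
  YV : Y ≤ VY Z₁ (S : Subgroup G) Y

namespace RootYZ

variable {Z Z₁ Y : Subgroup G} (h : RootYZ S Z Z₁ Y)
include h

/-- `J(S) ≤ WY` -/
theorem jj_le : jj (S : Subgroup G) ≤ WY (S : Subgroup G) Y := by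
  refine le_WY ⟨ZN.ChoiceBase.jj_le _, fun g hg => ?_⟩ (le_inf (ZN.ChoiceBase.jj_le _) ?_)
  · have h1 : jj (S : Subgroup G) ≤ cj g⁻¹ (S : Subgroup G) := cj_le_iff.1 hg
    have h2 := MinSimple.EmptyTI.jj_eq S (isPGroup_cj g⁻¹ S.isPGroup') h1
    rw [jj_cj] at h2
    have h3 := congrArg (cj g) h2
    rw [cj_cj_inv] at h3
    exact h3.symm
  · rw [ZN.ChoiceBase.jj_eq]
    refine sSup_le fun A hA => ?_
    by_contra hne
    have h1 := FFThm.off_of_AA (V := Y) ⟨⟨⟨fun a b => Subtype.ext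
      (mem_centralizer_iff.1 (h.comm b.2) a a.2)⟩⟩, h.sq⟩ h.YS hA hne
    have h2 := h1.offM
    have hAS : A ≤ (S : Subgroup G) := hA.2.1
    have h3 := h.nff A (S.isPGroup'.to_le hAS) (hAS.trans h.SY) h2.sq h2.comm hne
    exact absurd (FFThm.relIndex_le_iff.1 h2.le) (not_le.2 h3)

/-- `Y ≤ J(S)` -/
theorem Y_le_jj : Y ≤ jj (S : Subgroup G) := by
  obtain ⟨A, hA⟩ := AA_nonempty (S : Subgroup G)
  intro y hy
  refine le_jj hA (SQ1.Bau.mem_AA_of_comm hA (h.YS hy) (h.sq y hy) fun a ha => ?_)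
  have h1 := (WY_le (S : Subgroup G) Y (h.jj_le (le_jj hA ha))).2
  exact (mem_centralizer_iff.1 h1 y hy).symm

theorem Z_le : Z₁ ≤ zc (WY (S : Subgroup G) Y) := by
  intro x hx
  have hxY := h.ZY hx
  refine mem_zc.2 ⟨h.jj_le (h.Y_le_jj hxY), fun y hy => ?_, h.sq x hxY⟩
  exact (mem_centralizer_iff.1 (WY_le (S : Subgroup G) Y hy).2 x hxY).symm

/-- `V' ≤ Ω₁(Z(WY))` -/
theorem V_le : VY Z₁ (S : Subgroup G) Y ≤ zc (WY (S : Subgroup G) Y) := by
  refine cl_le fun p hp => ?_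
  have h1 := cj_mono p h.Z_le
  rwa [cj_eq_of_mem_normalizer (normalizer_le_normalizer_zc _ hp)] at h1

theorem V_comm : VY Z₁ (S : Subgroup G) Y ≤ centralizer (VY Z₁ (S : Subgroup G) Y : Set G) := by
  intro x hx
  rw [mem_centralizer_iff]
  intro y hy
  exact zc_comm _ _ (h.V_le hy) _ (h.V_le hx)

theorem V_sq : ∀ v ∈ VY Z₁ (S : Subgroup G) Y, v ^ 2 = 1 := fun v hv => zc_sq _ v (h.V_le hv)

theorem WY_cent : WY (S : Subgroup G) Y ≤ centralizer (VY Z₁ (S : Subgroup G) Y : Set G) :=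
  cent_symm (h.V_le.trans fun _ hx => mem_centralizer_iff.2 fun y hy => (mem_zc.1 hx).2.1 y hy)

/-- **`C_S(V') = WY`** -/
theorem cs_V : (S : Subgroup G) ⊓ centralizer (VY Z₁ (S : Subgroup G) Y : Set G) = WY (S : Subgroup G) Y := by
  refine le_antisymm (le_WY ⟨inf_le_left, fun g hg => ?_⟩ (inf_le_inf_left _ (centralizer_le h.YV)))
    (le_inf ((WY_le _ _).trans inf_le_left) h.WY_cent)
  have h1 : WY (S : Subgroup G) Y ≤ (S : Subgroup G) ⊓ centralizer (VY Z₁ (S : Subgroup G) Y : Set G) :=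
    le_inf ((WY_le _ _).trans inf_le_left) h.WY_cent
  have h2 : g ∈ normalizer (WY (S : Subgroup G) Y : Set G) := mem_norm_WY ((cj_mono g h1).trans hg)
  have h3 : cj g (VY Z₁ (S : Subgroup G) Y) = VY Z₁ (S : Subgroup G) Y :=
    cj_eq_of_mem_normalizer (le_normalizer_cl _ _ h2)
  have h4 : cj g ((S : Subgroup G) ⊓ centralizer (VY Z₁ (S : Subgroup G) Y : Set G)) ≤
      (S : Subgroup G) ⊓ centralizer (VY Z₁ (S : Subgroup G) Y : Set G) := by
    refine le_inf hg ?_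
    rw [cj_inf, cj_centralizer, h3]
    exact inf_le_right
  exact Subgroup.eq_of_le_of_card_ge h4 (card_cj _ _).ge

/-- **PRINCIPLE** -/
theorem principle {F : Set (Subgroup G)}
    (hF : ∀ A ∈ F, ∀ n ∈ normalizer (WY (S : Subgroup G) Y : Set G), cj n A ∈ F)
    {A : Subgroup G} (hA : A ∈ F) (hAS : A ≤ (S : Subgroup G))
    (hAV : ¬ A ≤ centralizer (VY Z₁ (S : Subgroup G) Y : Set G)) :
    ∃ B ∈ F, B ≤ (S : Subgroup G) ∧ ¬ B ≤ centralizer (Y : Set G) := by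
  by_contra hcon
  have hcon' : ∀ B ∈ F, B ≤ (S : Subgroup G) → B ≤ centralizer (Y : Set G) := by
    intro B hB hBS
    by_contra h1
    exact hcon ⟨B, hB, hBS, h1⟩
  set K : Subgroup G := WY (S : Subgroup G) Y ⊔ sSup {B | B ∈ F ∧ B ≤ (S : Subgroup G)} with hK
  have hKQ : K ≤ (S : Subgroup G) ⊓ centralizer (Y : Set G) :=
    sup_le (WY_le _ _) (sSup_le fun B hB => le_inf hB.2 (hcon' B hB.1 hB.2))
  have hKW : K ≤ WY (S : Subgroup G) Y := by
    refine le_WY ⟨hKQ.trans inf_le_left, fun g hg => ?_⟩ hKQ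
    have h2 : g ∈ normalizer (WY (S : Subgroup G) Y : Set G) := mem_norm_WY ((cj_mono g le_sup_left).trans hg)
    have h4 : cj g K ≤ K := by
      change Subgroup.map _ _ ≤ _
      rw [hK, Subgroup.map_sup]
      refine sup_le_sup (cj_eq_of_mem_normalizer h2).le ?_
      change cj g (sSup {B | B ∈ F ∧ B ≤ (S : Subgroup G)}) ≤ _
      rw [cj_sSup]
      refine iSup_le fun B => ?_
      have h5 : cj g (B : Subgroup G) ≤ (S : Subgroup G) :=
        (cj_mono g ((le_sSup B.2).trans le_sup_right)).trans hg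
      exact le_sSup (a := cj g (B : Subgroup G)) ⟨hF _ B.2.1 g h2, h5⟩
    exact Subgroup.eq_of_le_of_card_ge h4 (card_cj _ _).ge
  have h6 : A ≤ K := (le_sSup (s := {B | B ∈ F ∧ B ≤ (S : Subgroup G)}) ⟨hA, hAS⟩).trans le_sup_right
  exact hAV (h6.trans (hKW.trans h.WY_cent))

omit h in
theorem S_norm_V : (S : Subgroup G) ≤ normalizer (VY Z₁ (S : Subgroup G) Y : Set G) :=
  (wc_S_le (wc_WY _ _)).trans (le_normalizer_cl _ _)

/-- **`V'` is not FF.** -/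
theorem V_nff : NotFF (VY Z₁ (S : Subgroup G) Y) := by
  by_contra hn
  obtain ⟨A0, hA0⟩ := exists_opt hn
  obtain ⟨n, hn, hnS⟩ := FFThm.exists_conj_le S S_norm_V hA0.pg hA0.norm
  have hA1 := hA0.cj hn
  obtain ⟨A, hA, hAS, hne⟩ := h.principle (F := {A | Opt (VY Z₁ (S : Subgroup G) Y) A})
    (fun A hA m hm => Opt.cj hA (le_normalizer_cl _ _ hm)) hA1 hnS hA1.ne
  obtain ⟨h1, -⟩ := Opt.exact hA h.V_comm h.YV hne le_rfl (P := A) fun hoff => by
    exfalso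
    have h3 := h.nff A hA.pg (hAS.trans h.SY) hoff.sq hoff.comm hne
    exact absurd (FFThm.relIndex_le_iff.1 hoff.le) (not_le.2 h3)
  have h3 := h.nff A hA.pg (hAS.trans h.SY) h1.sq h1.comm hne
  exact absurd (FFThm.relIndex_le_iff.1 h1.le) (not_le.2 h3)

theorem pre : PreZ S Z (WY (S : Subgroup G) Y) (VY Z₁ (S : Subgroup G) Y) where
  Zne := h.Zne
  Zc := h.Zc
  wc := wc_WY _ _
  NW := le_normalizer_cl _ _
  WV := h.WY_cent
  comm := h.V_comm
  sq := h.V_sq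
  ZV := (h.zZ.trans h.ZY).trans h.YV
  nff := h.V_nff

/-- **`V' ≤ O₂(C_G(Z))`** if `Y ≤ O₂(C_G(Z))` -/
theorem low (hG : IsCharacteristicTwoType G) (hOff : StmtOff G)
    (hY : Y ≤ o2 (centralizer (Z : Set G))) :
    VY Z₁ (S : Subgroup G) Y ≤ o2 (centralizer (Z : Set G)) := by
  by_contra hV
  have p := h.pre
  have hb : Flat.Bad (VY Z₁ (S : Subgroup G) Y) Z := ⟨h.Zne, p.ZV, hV⟩
  obtain ⟨F0, hF0, -⟩ := exists_maxBad hb
  obtain ⟨n, hn, hnS⟩ := FFThm.exists_conj_le S p.S_le (WW_pgroup _ F0) (p.WW_le hF0.1.le)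
  have hnV := p.NW hn
  obtain ⟨A, ⟨F, hF, rfl⟩, hAS, hAne⟩ := h.principle
    (F := {A | ∃ F, MaxBad (VY Z₁ (S : Subgroup G) Y) F ∧ Flat.WW (VY Z₁ (S : Subgroup G) Y) F = A})
    (A := cj n (Flat.WW (VY Z₁ (S : Subgroup G) Y) F0)) (by
      rintro A ⟨F, hF, rfl⟩ m hm
      exact ⟨cj m F, hF.cj (p.NW hm), WW_cj (p.NW hm)⟩)
    ⟨cj n F0, hF0.cj hnV, WW_cj hnV⟩ hnS (by
      rw [← WW_cj hnV]
      exact p.WW_not_cent hG (hF0.cj hnV))
  have hoff := p.off_of hG hOff hF hAS h.YV hY hAne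
  have h3 := h.nff _ (WW_pgroup _ _) (hAS.trans h.SY) hoff.sq hoff.comm hAne
  exact absurd (FFThm.relIndex_le_iff.1 hoff.le) (not_le.2 h3)

end RootYZ

end Cfsg.Agent.Omega.NO3b.ZP.Base
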